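import Mathlib

/-!
# Arithmetic for groups with a trivial-intersection Sylow four-group
-/

set_option autoImplicit false
set_option linter.style.haveILetI false
set_option linter.unusedVariables false

namespace Cfsg.Agent.Lib.V4TI.Arith

lemma eight_div_lt (N : ℤ) (hN : 0 < N) (h : (1 : ℚ) < 8 / N) : N < 8 := by
  have hNq : (0 : ℚ) < N := by exact_mod_cast hN
  rw [lt_div_iff₀ hNq] at h
  have : (N : ℚ) < 8 := by linarith
  exact_mod_cast this

lemma pos_case (e₁ e₂ e₃ : ℤ) (N : ℤ) (hN : 0 < N) (h1 : 0 < e₁) (h2 : 0 < e₂)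
    (hs : e₁ + e₂ + e₃ = -1)
    (hF : (1 : ℚ) + 1 / e₁ + 1 / e₂ + 1 / e₃ = 8 / N) : N ≤ 15 := by
  have he3 : e₃ < 0 := by omega
  have h1q : (0 : ℚ) < e₁ := by exact_mod_cast h1
  have h2q : (0 : ℚ) < e₂ := by exact_mod_cast h2
  have h3 : (e₂ : ℚ) ≤ -(e₃ : ℚ) := by
    have : e₂ ≤ -e₃ := by omega
    exact_mod_cast this
  have h4 : (1 : ℚ) / e₂ + 1 / e₃ ≥ 0 := by
    have h5 : (1 : ℚ) / e₃ = -(1 / -(e₃ : ℚ)) := by
      rw [div_neg, neg_neg]
    rw [h5]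
    have := one_div_le_one_div_of_le h2q h3
    linarith
  have h6 : (0 : ℚ) < 1 / e₁ := by positivity
  have : (1 : ℚ) < 8 / N := by rw [← hF]; linarith
  have := eight_div_lt N hN this
  omega

lemma neg_aux (p q N : ℚ) (hN : 0 < N) (hp : 3 ≤ p) (hq : 7 ≤ q)
    (hF : 1 + 1 / (-p) + 1 / (-q) + 1 / (p + q - 1) = 8 / N) : N ≤ 14 := by
  have hp0 : 0 < p := by linarith
  have hq0 : 0 < q := by linarith
  have hs : 0 < p + q - 1 := by linarith
  have hP : 1 / p ≤ 1 / 3 := one_div_le_one_div_of_le (by norm_num) hp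
  have hQ : 1 / q ≤ 1 / 7 := one_div_le_one_div_of_le (by norm_num) hq
  have hP0 : 0 < 1 / p := by positivity
  have hQ0 : 0 < 1 / q := by positivity
  have hT : 1 / (p * q) ≤ 1 / (p + q - 1) := by
    apply one_div_le_one_div_of_le hs
    nlinarith
  have hPQ : 1 / (p * q) = (1 / p) * (1 / q) := by
    rw [one_div_mul_one_div]
  rw [hPQ] at hT
  have h1 : 1 / (-p) = -(1 / p) := by rw [div_neg]
  have h2 : 1 / (-q) = -(1 / q) := by rw [div_neg]
  rw [h1, h2] at hF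
  have h3 : (1 - 1 / p) * (1 - 1 / q) ≥ 4 / 7 := by nlinarith
  have h4 : 8 / N ≥ 4 / 7 := by
    rw [← hF]; nlinarith
  rw [ge_iff_le, div_le_div_iff₀ (by norm_num) hN] at h4
  linarith

lemma neg_case (p q N : ℤ) (hN : 0 < N) (hp : 3 ≤ p) (hq : 3 ≤ q)
    (hp3 : p = 3 ∨ 7 ≤ p) (hq3 : q = 3 ∨ 7 ≤ q)
    (hF : (1 : ℚ) + 1 / (-p : ℤ) + 1 / (-q : ℤ) + 1 / (p + q - 1 : ℤ) = 8 / N) : N ≤ 15 := by
  have hNq : (0 : ℚ) < N := by exact_mod_cast hN
  push_cast at hF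
  rcases hq3 with rfl | hq7
  · rcases hp3 with rfl | hp7
    · norm_num at hF
      have h2 : (N : ℚ) = 15 := by
        field_simp at hF
        linarith
      have : N = 15 := by exact_mod_cast h2
      omega
    · have hp7q : (7 : ℚ) ≤ p := by exact_mod_cast hp7
      have := neg_aux 3 (p : ℚ) (N : ℚ) hNq (by norm_num) hp7q (by
        rw [← hF]; push_cast; ring)
      have h2 : N ≤ 14 := by exact_mod_cast this
      omega
  · have hq7q : (7 : ℚ) ≤ q := by exact_mod_cast hq7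
    have hpq : (3 : ℚ) ≤ p := by exact_mod_cast hp
    have := neg_aux (p : ℚ) (q : ℚ) (N : ℚ) hNq hpq hq7q hF
    have h2 : N ≤ 14 := by exact_mod_cast this
    omega

/-- Arithmetic core: three integers `≡ 1 (mod 4)`, different from `1`, of sum `-1`. -/
theorem arith3 (e₁ e₂ e₃ N : ℤ) (hN : 0 < N) (h1 : ∃ k, e₁ = 4 * k + 1) (h2 : ∃ k, e₂ = 4 * k + 1)
    (h3 : ∃ k, e₃ = 4 * k + 1) (n1 : e₁ ≠ 1) (n2 : e₂ ≠ 1) (n3 : e₃ ≠ 1)
    (hs : e₁ + e₂ + e₃ = -1)
    (hF : (1 : ℚ) + 1 / e₁ + 1 / e₂ + 1 / e₃ = 8 / N) : N ≤ 15 := by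
  obtain ⟨k₁, rfl⟩ := h1
  obtain ⟨k₂, rfl⟩ := h2
  obtain ⟨k₃, rfl⟩ := h3
  set e₁ := 4 * k₁ + 1 with he₁
  set e₂ := 4 * k₂ + 1 with he₂
  set e₃ := 4 * k₃ + 1 with he₃
  have hsign : ∀ k : ℤ, 4 * k + 1 ≠ 1 → 0 < 4 * k + 1 ∨ 4 * k + 1 < 0 := by
    intro k hk; omega
  rcases hsign k₁ n1 with p1 | p1 <;> rcases hsign k₂ n2 with p2 | p2 <;>
    rcases hsign k₃ n3 with p3 | p3
  · omega
  · exact pos_case e₁ e₂ e₃ N hN p1 p2 hs hF
  · exact pos_case e₁ e₃ e₂ N hN p1 p3 (by omega) (by rw [← hF]; ring)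
  · -- e₂, e₃ < 0, e₁ > 0
    have := neg_case (-e₂) (-e₃) N hN (by omega) (by omega) (by omega) (by omega) (by
      rw [← hF]
      have : e₁ = -e₂ + -e₃ - 1 := by omega
      rw [this]
      push_cast
      ring)
    exact this
  · exact pos_case e₂ e₃ e₁ N hN p2 p3 (by omega) (by rw [← hF]; ring)
  · have := neg_case (-e₁) (-e₃) N hN (by omega) (by omega) (by omega) (by omega) (by
      rw [← hF]
      have : e₂ = -e₁ + -e₃ - 1 := by omega
      rw [this]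
      push_cast
      ring)
    exact this
  · have := neg_case (-e₁) (-e₂) N hN (by omega) (by omega) (by omega) (by omega) (by
      rw [← hF]
      have : e₃ = -e₁ + -e₂ - 1 := by omega
      rw [this]
      push_cast
      ring)
    exact this
  · omega

lemma sq_le_three' {x : ℤ} (h : x ^ 2 ≤ 3) (hne : x ≠ 0) : x = 1 ∨ x = -1 := by
  have h2 : x ≤ 1 := by nlinarith
  have h3 : -1 ≤ x := by nlinarith
  omega

/-- A sum over a finite type whose support is within four given indices. -/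
lemma sum_four {I : Type*} [Fintype I] [DecidableEq I] {R : Type*} [AddCommMonoid R]
    (i₀ x y z : I) (h0x : i₀ ≠ x) (h0y : i₀ ≠ y) (h0z : i₀ ≠ z)
    (hxy : x ≠ y) (hxz : x ≠ z) (hyz : y ≠ z)
    (f : I → R) (hf : ∀ i, i ≠ i₀ → i ≠ x → i ≠ y → i ≠ z → f i = 0) :
    ∑ i, f i = f i₀ + (f x + (f y + f z)) := by
  have hsub : ({i₀, x, y, z} : Finset I) ⊆ Finset.univ := Finset.subset_univ _
  rw [← Finset.sum_subset hsub]
  · rw [Finset.sum_insert (by simp [h0x, h0y, h0z]),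
      Finset.sum_insert (by simp [hxy, hxz]),
      Finset.sum_insert (by simp [hyz]), Finset.sum_singleton]
  · intro i _ hi
    simp only [Finset.mem_insert, Finset.mem_singleton, not_or] at hi
    exact hf i hi.1 hi.2.1 hi.2.2.1 hi.2.2.2

lemma div_term {a d : ℤ} (ha : a = 1 ∨ a = -1) (hd : d ≠ 0) :
    (a : ℚ) / d = 1 / ((a * d : ℤ) : ℚ) := by
  have hdq : (d : ℚ) ≠ 0 := by exact_mod_cast hd
  rcases ha with rfl | rfl
  · simp
  · push_cast
    field_simp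

set_option maxHeartbeats 1000000 in
/-- The arithmetic over all irreducible characters. -/
theorem sum_arith {I : Type*} [Fintype I] [DecidableEq I] (a d : I → ℤ) (i₀ : I) (N : ℤ)
    (hN : 0 < N) (h0a : a i₀ = 1) (h0d : d i₀ = 1) (hd : ∀ i, 0 < d i)
    (O : ∑ i, a i ^ 2 = 4) (Od : ∑ i, a i * d i = 0)
    (hmod : ∀ i, a i ≠ 0 → ∃ n, d i + 3 * a i = 4 * n)
    (hlin : ∀ i, i ≠ i₀ → a i ≠ 0 → a i * d i ≠ 1)
    (F : ∑ i, (a i : ℚ) / (d i : ℚ) = 8 / (N : ℚ)) : N ≤ 15 := by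
  classical
  set U := Finset.univ.erase i₀ with hU
  have hsplit : ∀ f : I → ℤ, ∑ i, f i = f i₀ + ∑ i ∈ U, f i := fun f =>
    (Finset.add_sum_erase _ f (Finset.mem_univ i₀)).symm
  set B := U.filter (fun i => a i ≠ 0) with hB
  have hU3 : ∑ i ∈ U, a i ^ 2 = 3 := by
    have := hsplit (fun i => a i ^ 2)
    simp only [h0a] at this
    omega
  have hB3 : ∑ i ∈ B, a i ^ 2 = 3 := by
    rw [hB, Finset.sum_filter_of_ne]
    · exact hU3
    · intro i _ h hb
      apply h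
      rw [hb]; norm_num
  have hale : ∀ i ∈ U, a i ^ 2 ≤ 3 := fun i hi => by
    rw [← hU3]
    exact Finset.single_le_sum (f := fun i => a i ^ 2) (fun _ _ => sq_nonneg _) hi
  have ha1 : ∀ i ∈ B, a i = 1 ∨ a i = -1 := by
    intro i hi
    have hi' := Finset.mem_filter.mp hi
    exact sq_le_three' (hale i hi'.1) hi'.2
  have hasq : ∀ i ∈ B, a i ^ 2 = 1 := by
    intro i hi
    rcases ha1 i hi with h | h <;> rw [h] <;> norm_num
  have hBcard : B.card = 3 := by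
    have : ∑ i ∈ B, a i ^ 2 = ∑ i ∈ B, (1 : ℤ) := Finset.sum_congr rfl hasq
    rw [hB3, Finset.sum_const, nsmul_one] at this
    omega
  obtain ⟨x, y, z, hxy, hxz, hyz, hBeq⟩ := Finset.card_eq_three.mp hBcard
  have hxB : x ∈ B := by rw [hBeq]; simp
  have hyB : y ∈ B := by rw [hBeq]; simp
  have hzB : z ∈ B := by rw [hBeq]; simp
  have hne0 : ∀ i ∈ U, i ≠ i₀ := fun i hi => (Finset.mem_erase.mp hi).1
  have h0x : i₀ ≠ x := (hne0 x (Finset.mem_filter.mp hxB).1).symm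
  have h0y : i₀ ≠ y := (hne0 y (Finset.mem_filter.mp hyB).1).symm
  have h0z : i₀ ≠ z := (hne0 z (Finset.mem_filter.mp hzB).1).symm
  have hout : ∀ i, i ≠ i₀ → i ≠ x → i ≠ y → i ≠ z → a i = 0 := by
    intro i h0 h1 h2 h3
    by_contra ha
    have : i ∈ B := Finset.mem_filter.mpr ⟨Finset.mem_erase.mpr ⟨h0, Finset.mem_univ _⟩, ha⟩
    rw [hBeq] at this
    simp at this
    tauto
  rw [sum_four i₀ x y z h0x h0y h0z hxy hxz hyz _ (fun i h0 h1 h2 h3 => by
    simp [hout i h0 h1 h2 h3])] at Od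
  rw [sum_four i₀ x y z h0x h0y h0z hxy hxz hyz _ (fun i h0 h1 h2 h3 => by
    simp [hout i h0 h1 h2 h3])] at F
  simp only [h0a, h0d, mul_one, Int.cast_one, div_one] at Od F
  rw [div_term (ha1 x hxB) (hd x).ne', div_term (ha1 y hyB) (hd y).ne',
    div_term (ha1 z hzB) (hd z).ne'] at F
  have hmod4 : ∀ i ∈ B, ∃ k, a i * d i = 4 * k + 1 := by
    intro i hi
    obtain ⟨n, hn⟩ := hmod i (Finset.mem_filter.mp hi).2
    refine ⟨n * a i - 1, ?_⟩
    have h2 := hasq i hi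
    linear_combination a i * hn - 3 * h2
  have hlin' : ∀ i ∈ B, a i * d i ≠ 1 := fun i hi =>
    hlin i (hne0 i (Finset.mem_filter.mp hi).1) (Finset.mem_filter.mp hi).2
  exact arith3 _ _ _ N hN (hmod4 x hxB) (hmod4 y hyB) (hmod4 z hzB) (hlin' x hxB) (hlin' y hyB)
    (hlin' z hzB) (by linarith) (by rw [← F]; ring)

end Cfsg.Agent.Lib.V4TI.Arith
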