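import Cfsg.Agent.Lib.Char.ClassProd
import Cfsg.Agent.Lib.Char.Central
import Cfsg.Agent.Lib.Char.RealOdd
import Cfsg.Agent.Lib.Char.Linear
import Cfsg.Agent.Lib.V4TI.Arith

/-!
# Character theory of a group with a Klein four Sylow subgroup `V`, `C(x) = V × K`, one class of
involutions.

No assumption on the odd-order group `K`.  The class function `(1/|K|) ∑ k, χ (x k)` gives, via the
(class-function) indicator of the elements of even order, an integer vector of norm `4`, supported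
on characters for which `χ(x k)` is constant on `K`, and the class-product count shows that the
number of involutions is at most `15`.
-/

set_option autoImplicit false
set_option linter.style.haveILetI false
set_option linter.unusedVariables false
set_option linter.unusedSectionVars false
set_option linter.unnecessarySeqFocus false

namespace Cfsg.Agent.Lib.V4TI.Core

open Cfsg Cfsg.Agent.Lib.Char.Basic Cfsg.Agent.Lib.Char.Ortho
  Cfsg.Agent.Lib.Char.Complete Cfsg.Agent.Lib.Char.ClassProd Cfsg.Agent.Lib.Char.Linear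
open scoped ComplexConjugate

/-- The hypotheses. -/
structure Setup {G : Type*} [Group G] (x y : G) (K : Subgroup G) : Prop where
  hx : x * x = 1
  hy : y * y = 1
  hx1 : x ≠ 1
  hy1 : y ≠ 1
  hxy : x * y = y * x
  hne : y ≠ x
  hKodd : Odd (Nat.card K)
  hKx : ∀ k ∈ K, k * x = x * k
  hKy : ∀ k ∈ K, k * y = y * k
  hC : ∀ g, g * x = x * g → ∃ k ∈ K, g = k ∨ g = x * k ∨ g = y * k ∨ g = x * y * k
  hcard : Nat.card (Subgroup.centralizer ({x} : Set G)) = 4 * Nat.card K
  hconj : ∀ u, u * u = 1 → u ≠ 1 → IsConj x u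

section Group

variable {G : Type*} [Group G] [Finite G] {x y : G} {K : Subgroup G} (hs : Setup x y K)

include hs

lemma pow_odd_of_sq {u : G} (hu : u * u = 1) {n : ℕ} (hn : Odd n) : u ^ n = u := by
  obtain ⟨l, rfl⟩ := hn
  rw [pow_succ, pow_mul, sq, hu, one_pow, one_mul]

lemma k_pow {k : G} (hk : k ∈ K) : k ^ Nat.card K = 1 := by
  have := pow_card_eq_one' (x := (⟨k, hk⟩ : K))
  exact congrArg Subtype.val this

lemma xk_pow {k : G} (hk : k ∈ K) : (x * k) ^ Nat.card K = x := by
  have hc : Commute x k := (hs.hKx k hk).symm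
  rw [hc.mul_pow, k_pow hs hk, mul_one, pow_odd_of_sq hs hs.hx hs.hKodd]

lemma comm_of_conj {g k k' : G} (hk : k ∈ K) (hk' : k' ∈ K) (h : g * (x * k) * g⁻¹ = x * k') :
    g * x = x * g := by
  have h1 : (g * (x * k) * g⁻¹) ^ Nat.card K = x := by rw [h, xk_pow hs hk']
  rw [conj_pow, xk_pow hs hk] at h1
  calc g * x = g * x * g⁻¹ * g := by group
    _ = x * g := by rw [h1]

lemma xy_sq : (x * y) * (x * y) = 1 := by
  calc (x * y) * (x * y) = (x * x) * (y * y) := by
        calc (x * y) * (x * y) = x * (y * x) * y := by group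
          _ = x * (x * y) * y := by rw [hs.hxy]
          _ = _ := by group
    _ = 1 := by rw [hs.hx, hs.hy, one_mul]

lemma xy_ne_one : x * y ≠ 1 := by
  intro h
  apply hs.hne
  have : y = x⁻¹ := eq_inv_of_mul_eq_one_right h
  rw [this, inv_eq_of_mul_eq_one_right hs.hx]

/-- Elements of `V` commute with `K`. -/
lemma v_comm {k : G} (hk : k ∈ K) (v : G) (hv : v = 1 ∨ v = x ∨ v = y ∨ v = x * y) :
    v * k = k * v := by
  rcases hv with rfl | rfl | rfl | rfl
  · simp
  · exact (hs.hKx k hk).symm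
  · exact (hs.hKy k hk).symm
  · calc x * y * k = x * (k * y) := by rw [mul_assoc, ← hs.hKy k hk]
      _ = (x * k) * y := by group
      _ = (k * x) * y := by rw [hs.hKx k hk]
      _ = _ := by group

/-- Decomposition in a convenient form. -/
lemma decomp {g : G} (hg : g * x = x * g) :
    ∃ v k, k ∈ K ∧ (v = 1 ∨ v = x ∨ v = y ∨ v = x * y) ∧ g = v * k := by
  obtain ⟨k, hk, h⟩ := hs.hC g hg
  rcases h with rfl | rfl | rfl | rfl
  · exact ⟨1, _, hk, Or.inl rfl, by simp⟩
  · exact ⟨x, k, hk, Or.inr (Or.inl rfl), rfl⟩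
  · exact ⟨y, k, hk, Or.inr (Or.inr (Or.inl rfl)), rfl⟩
  · exact ⟨x * y, k, hk, Or.inr (Or.inr (Or.inr rfl)), rfl⟩

lemma v_sq {v : G} (hv : v = 1 ∨ v = x ∨ v = y ∨ v = x * y) : v * v = 1 := by
  rcases hv with rfl | rfl | rfl | rfl
  · simp
  · exact hs.hx
  · exact hs.hy
  · exact xy_sq hs

lemma v_ne_one_pow {v : G} (hv : v = 1 ∨ v = x ∨ v = y ∨ v = x * y) {k : G} (hk : k ∈ K) :
    (v * k) ^ Nat.card K = v := by
  have hc : Commute v k := v_comm hs hk v hv
  rw [hc.mul_pow, k_pow hs hk, mul_one, pow_odd_of_sq hs (v_sq hs hv) hs.hKodd]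

/-- An element of `C(x)` with `g ^ |K| = 1` lies in `K`. -/
lemma mem_K_of_comm {g : G} (hg : g * x = x * g) (hm : g ^ Nat.card K = 1) : g ∈ K := by
  obtain ⟨v, k, hk, hv, rfl⟩ := decomp hs hg
  rw [v_ne_one_pow hs hv hk] at hm
  rw [hm, one_mul]
  exact hk

/-- An element of `K` of order dividing two is trivial. -/
lemma eq_one_of_sq {k : G} (hk : k ∈ K) (h : k * k = 1) : k = 1 := by
  have h1 := k_pow hs hk
  rw [← pow_odd_of_sq hs h hs.hKodd, h1]

/-- An element of `C(x)` of order dividing two is in `V`. -/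
lemma mem_V_of_sq {u : G} (hu : u * x = x * u) (h : u * u = 1) :
    u = 1 ∨ u = x ∨ u = y ∨ u = x * y := by
  obtain ⟨v, k, hk, hv, rfl⟩ := decomp hs hu
  have hc := v_comm hs hk v hv
  have h2 : k * k = 1 := by
    have h3 : v * k * (v * k) = (v * v) * (k * k) := by
      calc v * k * (v * k) = v * (k * v) * k := by group
        _ = v * (v * k) * k := by rw [hc]
        _ = _ := by group
    rw [h3, v_sq hs hv, one_mul] at h
    exact h
  rw [eq_one_of_sq hs hk h2, mul_one]
  exact hv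

end Group

/-! ### Small homomorphisms -/

/-- The sign of `ℤ/2`. -/
def sgnZ2 : Multiplicative (ZMod 2) →* ℤˣ :=
  MonoidHom.mk' (fun i => if i = 1 then 1 else -1) (by decide)

/-- Composite to `ℂˣ`. -/
noncomputable def toCx : ℤˣ →* ℂˣ := Units.map (Int.castRingHom ℂ).toMonoidHom

lemma sum_Z2 {R : Type*} [AddCommMonoid R] (f : Multiplicative (ZMod 2) → R) :
    ∑ i, f i = f 1 + f (Multiplicative.ofAdd 1) := by
  have : (Finset.univ : Finset (Multiplicative (ZMod 2))) = {1, Multiplicative.ofAdd 1} := by decide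
  rw [this, Finset.sum_insert (by decide), Finset.sum_singleton]

lemma Z2_cases : ∀ i j : Multiplicative (ZMod 2),
    (i = 1 ∧ j = 1 ∧ i * j = 1) ∨ (i = 1 ∧ j ≠ 1 ∧ i * j ≠ 1) ∨ (i ≠ 1 ∧ j = 1 ∧ i * j ≠ 1) ∨
      (i ≠ 1 ∧ j ≠ 1 ∧ i * j = 1) := by decide

lemma sgnZ2_one : sgnZ2 1 = 1 := by decide
lemma sgnZ2_ofAdd : sgnZ2 (Multiplicative.ofAdd 1) = -1 := by decide
lemma ofAdd_ne : (Multiplicative.ofAdd (1 : ZMod 2)) ≠ 1 := by decide

/-- The homomorphism `ℤ/2 × K → G`. -/
def eHom {G : Type*} [Group G] (x : G) (K : Subgroup G) (hx : x * x = 1)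
    (hKx : ∀ k ∈ K, k * x = x * k) : Multiplicative (ZMod 2) × K →* G :=
  MonoidHom.mk' (fun p => (if p.1 = 1 then 1 else x) * (p.2 : G)) (by
    rintro ⟨i, k⟩ ⟨j, k'⟩
    have hk := hKx _ k.2
    show (if i * j = 1 then 1 else x) * ((k : G) * k') =
      (if i = 1 then 1 else x) * k * ((if j = 1 then 1 else x) * k')
    rcases Z2_cases i j with ⟨h1, h2, h3⟩ | ⟨h1, h2, h3⟩ | ⟨h1, h2, h3⟩ | ⟨h1, h2, h3⟩
    · rw [if_pos h1, if_pos h2, if_pos h3]
      group
    · rw [if_pos h1, if_neg h2, if_neg h3]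
      calc x * ((k : G) * k') = (x * k) * k' := by group
        _ = (k * x) * k' := by rw [hk]
        _ = _ := by group
    · rw [if_neg h1, if_pos h2, if_neg h3]
      group
    · rw [if_neg h1, if_neg h2, if_pos h3]
      calc 1 * ((k : G) * k') = (x * x) * (k * k') := by rw [hx]
        _ = x * (x * k) * k' := by group
        _ = x * (k * x) * k' := by rw [hk]
        _ = _ := by group)

@[simp] lemma eHom_one {G : Type*} [Group G] (x : G) (K : Subgroup G) (hx : x * x = 1)
    (hKx : ∀ k ∈ K, k * x = x * k) (k : K) : eHom x K hx hKx (1, k) = k := by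
  show (if (1 : Multiplicative (ZMod 2)) = 1 then 1 else x) * (k : G) = k
  simp

@[simp] lemma eHom_ofAdd {G : Type*} [Group G] (x : G) (K : Subgroup G) (hx : x * x = 1)
    (hKx : ∀ k ∈ K, k * x = x * k) (k : K) :
    eHom x K hx hKx (Multiplicative.ofAdd 1, k) = x * k := by
  show (if (Multiplicative.ofAdd (1 : ZMod 2)) = 1 then 1 else x) * (k : G) = x * k
  rw [if_neg ofAdd_ne]

section Char

variable {G : Type*} [Group G] [Finite G] {x y : G} {K : Subgroup G}

/-- The main average. -/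
noncomputable def tau (x : G) (K : Subgroup G) [Fintype K] (χ : G → ℂ) : ℂ :=
  (Nat.card K : ℂ)⁻¹ * ∑ k : K, χ (x * k)

lemma card_K_ne_zero : (Nat.card K : ℂ) ≠ 0 := Nat.cast_ne_zero.mpr Nat.card_pos.ne'

lemma classInner_E [Fintype K] (A B : Multiplicative (ZMod 2) × K → ℂ) :
    classInner A B = (2 * (Nat.card K : ℂ))⁻¹ * (∑ k : K, A (1, k) * conj (B (1, k)) +
        ∑ k : K, A (Multiplicative.ofAdd 1, k) * conj (B (Multiplicative.ofAdd 1, k))) := by
  rw [classInner_def, Fintype.sum_prod_type, sum_Z2]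
  have hc : Nat.card (Multiplicative (ZMod 2) × K) = 2 * Nat.card K := by
    rw [Nat.card_prod]
    congr 1
    simp
  rw [hc]
  push_cast
  rfl

/-- The sign character on `ℤ/2 × K`. -/
noncomputable def sgnE (K : Subgroup G) : Multiplicative (ZMod 2) × K →* ℂˣ :=
  toCx.comp (sgnZ2.comp (MonoidHom.fst _ _))

lemma sgnE_one (k : K) : ((sgnE K (1, k) : ℂˣ) : ℂ) = 1 := by
  show ((toCx (sgnZ2 1) : ℂˣ) : ℂ) = 1
  rw [sgnZ2_one, map_one]
  rfl

lemma sgnE_ofAdd (k : K) : ((sgnE K (Multiplicative.ofAdd 1, k) : ℂˣ) : ℂ) = -1 := by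
  show ((toCx (sgnZ2 (Multiplicative.ofAdd 1)) : ℂˣ) : ℂ) = -1
  rw [sgnZ2_ofAdd]
  simp [toCx]

/-- Integrality of the average. -/
lemma tau_int [Fintype K] (hx : x * x = 1) (hKx : ∀ k ∈ K, k * x = x * k) {χ : G → ℂ}
    (hχ : IsCharacter G χ) : ∃ a : ℤ, tau x K χ = a := by
  have hθ := isCharacter_comp (eHom x K hx hKx) hχ
  have h1 : IsCharacter (Multiplicative (ZMod 2) × K) (fun _ => (1 : ℂ)) := isCharacter_one
  have h2 : IsCharacter (Multiplicative (ZMod 2) × K) (fun p => ((sgnE K p : ℂˣ) : ℂ)) :=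
    isCharacter_of_isIrrCharacter (isIrrCharacter_of_hom _)
  obtain ⟨n₁, hn₁⟩ := exists_nat_classInner hθ h1
  obtain ⟨n₂, hn₂⟩ := exists_nat_classInner hθ h2
  rw [classInner_E] at hn₁ hn₂
  simp only [Function.comp, eHom_one, eHom_ofAdd, sgnE_one, sgnE_ofAdd, map_one, map_neg, mul_one,
    mul_neg] at hn₁ hn₂
  refine ⟨(n₁ : ℤ) - n₂, ?_⟩
  push_cast
  rw [← hn₁, ← hn₂, Finset.sum_neg_distrib, tau]
  have := card_K_ne_zero (K := K)
  field_simp
  ring

/-- Integrality of the norm. -/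
lemma norm_int [Fintype K] (hx : x * x = 1) (hKx : ∀ k ∈ K, k * x = x * k) {χ : G → ℂ}
    (hχ : IsCharacter G χ) :
    ∃ N : ℤ, ∑ k : K, χ (x * k) * conj (χ (x * k)) = (Nat.card K : ℂ) * N := by
  have hθ := isCharacter_comp (eHom x K hx hKx) hχ
  have h2 : IsCharacter (Multiplicative (ZMod 2) × K) (fun p => ((sgnE K p : ℂˣ) : ℂ)) :=
    isCharacter_of_isIrrCharacter (isIrrCharacter_of_hom _)
  have h3 := isCharacter_mul hθ h2
  obtain ⟨n₁, hn₁⟩ := exists_nat_classInner hθ hθ
  obtain ⟨n₂, hn₂⟩ := exists_nat_classInner hθ h3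
  rw [classInner_E] at hn₁ hn₂
  simp only [Function.comp, Pi.mul_apply, eHom_one, eHom_ofAdd, sgnE_one, sgnE_ofAdd, map_one,
    map_neg, mul_one, mul_neg, map_mul] at hn₁ hn₂
  refine ⟨(n₁ : ℤ) - n₂, ?_⟩
  push_cast
  rw [← hn₁, ← hn₂, Finset.sum_neg_distrib]
  have := card_K_ne_zero (K := K)
  field_simp
  ring

/-- The homomorphism from `ℤ/2` with generator mapping to `x`. -/
def zHom (x : G) (hx : x * x = 1) : Multiplicative (ZMod 2) →* G :=
  MonoidHom.mk' (fun i => if i = 1 then 1 else x) (by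
    intro i j
    rcases Z2_cases i j with ⟨h1, h2, h3⟩ | ⟨h1, h2, h3⟩ | ⟨h1, h2, h3⟩ | ⟨h1, h2, h3⟩
    · simp only [if_pos h1, if_pos h2, if_pos h3, one_mul]
    · simp only [if_pos h1, if_neg h2, if_neg h3, one_mul]
    · simp only [if_neg h1, if_pos h2, if_neg h3, mul_one]
    · simp only [if_neg h1, if_neg h2, if_pos h3, hx])

lemma zHom_one (hx : x * x = 1) : zHom x hx 1 = 1 := map_one _

lemma zHom_ofAdd (hx : x * x = 1) : zHom x hx (Multiplicative.ofAdd 1) = x := by
  show (if (Multiplicative.ofAdd (1 : ZMod 2)) = 1 then 1 else x) = x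
  rw [if_neg ofAdd_ne]

/-- Value at an involution is an integer. -/
lemma char_x_int (hx : x * x = 1) {χ : G → ℂ} (hχ : IsCharacter G χ) : ∃ e : ℤ, χ x = e := by
  have hθ := isCharacter_comp (zHom x hx) hχ
  have h1 : IsCharacter (Multiplicative (ZMod 2)) (fun _ => (1 : ℂ)) := isCharacter_one
  have h2 : IsCharacter (Multiplicative (ZMod 2)) (fun p => ((toCx (sgnZ2 p) : ℂˣ) : ℂ)) :=
    isCharacter_of_isIrrCharacter (isIrrCharacter_of_hom (toCx.comp sgnZ2))
  obtain ⟨n₁, hn₁⟩ := exists_nat_classInner hθ h1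
  obtain ⟨n₂, hn₂⟩ := exists_nat_classInner hθ h2
  rw [classInner_def, sum_Z2] at hn₁ hn₂
  have hc : Nat.card (Multiplicative (ZMod 2)) = 2 := by simp
  have e1 : ((toCx (sgnZ2 1) : ℂˣ) : ℂ) = 1 := by
    rw [sgnZ2_one, map_one]; rfl
  have e2 : ((toCx (sgnZ2 (Multiplicative.ofAdd 1)) : ℂˣ) : ℂ) = -1 := by
    rw [sgnZ2_ofAdd]; simp [toCx]
  rw [hc] at hn₁ hn₂
  have hz1 : (χ ∘ zHom x hx) 1 = χ 1 := by simp [zHom_one]
  have hz2 : (χ ∘ zHom x hx) (Multiplicative.ofAdd 1) = χ x := by simp [zHom_ofAdd]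
  simp only [hz1, hz2, e1, e2, map_one, map_neg, mul_one, mul_neg, Units.val_one] at hn₁ hn₂
  refine ⟨(n₁ : ℤ) - n₂, ?_⟩
  push_cast
  rw [← hn₁, ← hn₂]
  push_cast
  ring

/-- `d + 3 e` is divisible by `4` when `χ x = χ y = χ (x y) = e`. -/
lemma char_V_mod (hx : x * x = 1) (hy : y * y = 1) (hxy : x * y = y * x) {χ : G → ℂ}
    (hχ : IsCharacter G χ) (e : ℂ) (h1 : χ x = e) (h2 : χ y = e) (h3 : χ (x * y) = e) :
    ∃ n : ℕ, χ 1 + 3 * e = 4 * n := by
  let f : Multiplicative (ZMod 2) × Multiplicative (ZMod 2) →* G :=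
    MonoidHom.noncommCoprod (zHom x hx) (zHom y hy) (by
      intro i j
      by_cases hi : i = 1
      · simp [hi]
      by_cases hj : j = 1
      · simp [hj]
      have hi' : i = Multiplicative.ofAdd 1 := by decide +revert
      have hj' : j = Multiplicative.ofAdd 1 := by decide +revert
      rw [hi', hj', zHom_ofAdd, zHom_ofAdd]
      exact hxy)
  have hθ := isCharacter_comp f hχ
  have h1' : IsCharacter (Multiplicative (ZMod 2) × Multiplicative (ZMod 2)) (fun _ => (1 : ℂ)) :=
    isCharacter_one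
  obtain ⟨n, hn⟩ := exists_nat_classInner hθ h1'
  rw [classInner_def, Fintype.sum_prod_type, sum_Z2, sum_Z2, sum_Z2] at hn
  have hc : Nat.card (Multiplicative (ZMod 2) × Multiplicative (ZMod 2)) = 4 := by
    rw [Nat.card_prod]; simp
  rw [hc] at hn
  have f11 : f (1, 1) = 1 := map_one f
  have f12 : f (1, Multiplicative.ofAdd 1) = y := by
    show zHom x hx 1 * zHom y hy (Multiplicative.ofAdd 1) = y
    rw [zHom_one, zHom_ofAdd, one_mul]
  have f21 : f (Multiplicative.ofAdd 1, 1) = x := by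
    show zHom x hx (Multiplicative.ofAdd 1) * zHom y hy 1 = x
    rw [zHom_one, zHom_ofAdd, mul_one]
  have f22 : f (Multiplicative.ofAdd 1, Multiplicative.ofAdd 1) = x * y := by
    show zHom x hx (Multiplicative.ofAdd 1) * zHom y hy (Multiplicative.ofAdd 1) = x * y
    rw [zHom_ofAdd, zHom_ofAdd]
  simp only [Function.comp, f11, f12, f21, f22, map_one, mul_one, h1, h2, h3] at hn
  refine ⟨n, ?_⟩
  rw [← hn]
  push_cast
  ring

end Char

section Orth

variable {G : Type*} [Group G] [Finite G] {x y : G} {K : Subgroup G} (hs : Setup x y K)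
  [Fintype G] [Fintype K] [Fintype (IrrCharacter G)]

include hs

/-- Degree relation. -/
theorem sum_tau_deg : ∑ χ : IrrCharacter G, tau x K χ * conj ((χ : G → ℂ) 1) = 0 := by
  have h1 : ∀ k : K, ∑ χ : IrrCharacter G, (χ : G → ℂ) (x * k) * conj ((χ : G → ℂ) 1) = 0 := by
    intro k
    have h0 := sum_irr_mul_conj (x * (k : G)) (1 : G)
    rw [if_neg] at h0
    · exact h0
    · intro hc
      have h2 : x * (k : G) = 1 := isConj_one_right.mp (isConj_comm.mp hc)
      have h3 := xk_pow hs k.2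
      rw [h2, one_pow] at h3
      exact hs.hx1 h3.symm
  simp only [tau, Finset.sum_mul, Finset.mul_sum]
  rw [Finset.sum_comm]
  refine Finset.sum_eq_zero fun k _ => ?_
  simp only [mul_assoc]
  rw [← Finset.mul_sum, h1 k, mul_zero]

omit [Fintype G] [Fintype K] [Fintype (IrrCharacter G)] in
/-- Orbit-stabiliser inside `C(x)`. -/
lemma count_conj (k' : K) :
    Nat.card {k : K // IsConj (x * (k : G)) (x * (k' : G))} *
      Nat.card (Subgroup.centralizer ({x * (k' : G)} : Set G)) = 4 * Nat.card K := by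
  classical
  set C' := Subgroup.centralizer ({x} : Set G) with hC'
  have hmemC : ∀ {g : G}, g ∈ C' ↔ g * x = x * g := fun {g} => Subgroup.mem_centralizer_singleton_iff
  have hxk : ∀ k : K, x * (k : G) ∈ C' := by
    intro k
    rw [hmemC]
    calc x * (k : G) * x = x * (k * x) := by group
      _ = x * (x * k) := by rw [hs.hKx k k.2]
      _ = _ := by group
  let h : C' := ⟨x * (k' : G), hxk k'⟩
  have h0 := card_isConj_mul_card_centralizer h
  rw [hs.hcard] at h0
  have e1 : Nat.card {k : K // IsConj (x * (k : G)) (x * (k' : G))} =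
      Nat.card {c : C' // IsConj c h} := by
    apply Nat.card_congr
    refine Equiv.ofBijective (fun k => ⟨⟨x * (k.1 : G), hxk k.1⟩, ?_⟩) ⟨?_, ?_⟩
    · obtain ⟨g, hg⟩ := isConj_iff.mp k.2
      have hg' := comm_of_conj hs k.1.2 k'.2 hg
      rw [isConj_iff]
      refine ⟨⟨g, hmemC.mpr hg'⟩, ?_⟩
      apply Subtype.ext
      exact hg
    · intro a b hab
      have h1 : x * ((a.1 : K) : G) = x * ((b.1 : K) : G) := congrArg (fun z => ((z.1 : C') : G)) hab
      exact Subtype.ext (Subtype.ext (mul_left_cancel h1))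
    · rintro ⟨c, hc⟩
      obtain ⟨t, ht⟩ := isConj_iff.mp hc
      have ht' : (t : G) * c * (t : G)⁻¹ = x * k' := congrArg Subtype.val ht
      -- `c = t⁻¹ (x k') t`
      have hs1 : ((t : G)⁻¹) * x = x * (t : G)⁻¹ := by
        have := hmemC.mp (C'.inv_mem t.2)
        exact this
      obtain ⟨v, k₁, hk₁, hv, hsv⟩ := decomp hs hs1
      have hk₂ : k₁ * k' * k₁⁻¹ ∈ K := K.mul_mem (K.mul_mem hk₁ k'.2) (K.inv_mem hk₁)
      have hc2 : (c : G) = x * (k₁ * k' * k₁⁻¹) := by
        have h3 : (c : G) = (t : G)⁻¹ * (x * k') * (t : G) := by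
          rw [← ht']; group
        have hvk : v * (k₁ * k' * k₁⁻¹) = (k₁ * k' * k₁⁻¹) * v := v_comm hs hk₂ v hv
        have h4 : (t : G)⁻¹ * (x * k') * t = x * ((t : G)⁻¹ * k' * t) := by
          calc (t : G)⁻¹ * (x * k') * t = ((t : G)⁻¹ * x) * k' * t := by group
            _ = (x * (t : G)⁻¹) * k' * t := by rw [hs1]
            _ = _ := by group
        rw [h3, h4]
        congr 1
        have h5 : (t : G) = k₁⁻¹ * v⁻¹ := by
          have : (t : G)⁻¹ = v * k₁ := hsv
          rw [← inv_inj, this]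
          group
        rw [h5]
        calc (k₁⁻¹ * v⁻¹)⁻¹ * k' * (k₁⁻¹ * v⁻¹) = v * (k₁ * k' * k₁⁻¹) * v⁻¹ := by group
          _ = (k₁ * k' * k₁⁻¹) * v * v⁻¹ := by rw [hvk]
          _ = _ := by group
      refine ⟨⟨⟨_, hk₂⟩, ?_⟩, ?_⟩
      · rw [isConj_iff]
        refine ⟨t, ?_⟩
        show (t : G) * (x * (k₁ * k' * k₁⁻¹)) * (t : G)⁻¹ = x * k'
        rw [← hc2, ht']
      · apply Subtype.ext
        apply Subtype.ext
        exact hc2.symm
  have e2 : Nat.card (Subgroup.centralizer ({x * (k' : G)} : Set G)) =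
      Nat.card (Subgroup.centralizer ({h} : Set C')) := by
    apply Nat.card_congr
    refine Equiv.ofBijective (fun g => ⟨⟨g.1, ?_⟩, ?_⟩) ⟨?_, ?_⟩
    · have h1 := Subgroup.mem_centralizer_singleton_iff.mp g.2
      rw [hmemC]
      apply comm_of_conj hs k'.2 k'.2 (k := k') (k' := k')
      rw [h1]
      group
    · rw [Subgroup.mem_centralizer_singleton_iff]
      apply Subtype.ext
      exact Subgroup.mem_centralizer_singleton_iff.mp g.2
    · intro a b hab
      exact Subtype.ext (congrArg (fun z => ((z.1 : C') : G)) hab)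
    · rintro ⟨⟨g, hg⟩, hg2⟩
      have h1 := Subgroup.mem_centralizer_singleton_iff.mp hg2
      have h2 : g * (x * (k' : G)) = x * (k' : G) * g := congrArg Subtype.val h1
      exact ⟨⟨g, Subgroup.mem_centralizer_singleton_iff.mpr h2⟩, rfl⟩
  rw [e1, e2, h0]

/-- Norm of the average vector. -/
theorem sum_tau_sq : ∑ χ : IrrCharacter G, tau x K χ * conj (tau x K χ) = 4 := by
  classical
  have hm := card_K_ne_zero (K := K)
  have key : ∀ k' : K, ∑ k : K, ∑ χ : IrrCharacter G, (χ : G → ℂ) (x * k) * conj ((χ : G → ℂ) (x * k')) =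
      4 * (Nat.card K : ℂ) := by
    intro k'
    have h1 : ∀ k : K, ∑ χ : IrrCharacter G, (χ : G → ℂ) (x * k) * conj ((χ : G → ℂ) (x * k')) =
        if IsConj (x * (k : G)) (x * (k' : G)) then
          (Nat.card (Subgroup.centralizer ({x * (k' : G)} : Set G)) : ℂ) else 0 := fun k => by
      convert sum_irr_mul_conj (x * (k : G)) (x * (k' : G))
    simp only [h1]
    rw [Finset.sum_ite, Finset.sum_const_zero, add_zero, Finset.sum_const, nsmul_eq_mul]
    have h2 := count_conj hs k'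
    have h3 : ((Finset.univ.filter fun k : K => IsConj (x * (k : G)) (x * (k' : G))).card : ℕ) =
        Nat.card {k : K // IsConj (x * (k : G)) (x * (k' : G))} := by
      rw [Nat.card_eq_fintype_card, Fintype.card_subtype]
    rw [h3]
    exact_mod_cast h2
  have h2 : ∀ χ : IrrCharacter G, tau x K χ * conj (tau x K χ) =
      ((Nat.card K : ℂ)⁻¹) ^ 2 * ∑ k' : K, ∑ k : K, (χ : G → ℂ) (x * k) * conj ((χ : G → ℂ) (x * k')) := by
    intro χ
    simp only [tau, map_mul, map_inv₀, map_natCast, map_sum]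
    rw [mul_mul_mul_comm, Finset.sum_mul_sum, ← sq]
    rw [Finset.sum_comm]
  simp only [h2]
  rw [← Finset.mul_sum, Finset.sum_comm]
  have h3 : ∀ k' : K, ∑ χ : IrrCharacter G, ∑ k : K, (χ : G → ℂ) (x * k) * conj ((χ : G → ℂ) (x * k')) =
      4 * (Nat.card K : ℂ) := by
    intro k'
    rw [Finset.sum_comm]
    exact key k'
  simp only [h3, Finset.sum_const, Finset.card_univ, nsmul_eq_mul]
  rw [← Nat.card_eq_fintype_card]
  field_simp

omit hs in
omit [Fintype G] [Fintype K] [Fintype (IrrCharacter G)] in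
lemma isIntegral_conj {z : ℂ} (h : IsIntegral ℤ z) : IsIntegral ℤ (conj z) :=
  map_isIntegral_int (starRingEnd ℂ) h

omit hs in
omit [Fintype G] [Fintype K] [Fintype (IrrCharacter G)] in
lemma int_of_integral_rat {q : ℚ} (h : IsIntegral ℤ (q : ℂ)) : ∃ z : ℤ, q = z := by
  have h1 : IsIntegral ℤ q := by
    have hinj : Function.Injective (algebraMap ℚ ℂ) := (algebraMap ℚ ℂ).injective
    rw [← isIntegral_algebraMap_iff hinj]
    simpa using h
  obtain ⟨z, hz⟩ := IsIntegrallyClosed.isIntegral_iff.mp h1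
  exact ⟨z, by simpa using hz.symm⟩

omit hs in
omit [Fintype G] [Fintype K] [Fintype (IrrCharacter G)] in
/-- A sum over a finite set with a fixed-point-free involution preserving a function with integral
values is twice an algebraic integer. -/
lemma sum_invol_two {α : Type*} [DecidableEq α] (s : Finset α) (τ : α → α) (hτ : ∀ g ∈ s, τ g ∈ s)
    (hfp : ∀ g ∈ s, τ g ≠ g) (hinv : ∀ g ∈ s, τ (τ g) = g) (F : α → ℂ)
    (hF : ∀ g ∈ s, F (τ g) = F g) (hint : ∀ g ∈ s, IsIntegral ℤ (F g)) :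
    ∃ γ : ℂ, IsIntegral ℤ γ ∧ ∑ g ∈ s, F g = 2 * γ := by
  induction s using Finset.strongInduction with
  | H s ih =>
    rcases s.eq_empty_or_nonempty with rfl | ⟨g, hg⟩
    · exact ⟨0, isIntegral_zero, by simp⟩
    · set s' := (s.erase g).erase (τ g) with hs'
      have hτg : τ g ∈ s.erase g := Finset.mem_erase.mpr ⟨hfp g hg, hτ g hg⟩
      have hsub : s' ⊂ s := by
        refine Finset.ssubset_iff_subset_ne.mpr ⟨?_, ?_⟩
        · exact (Finset.erase_subset _ _).trans (Finset.erase_subset _ _)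
        · intro h
          have : g ∈ s' := by rw [h]; exact hg
          simp [hs'] at this
      have hmem : ∀ u ∈ s', u ∈ s ∧ u ≠ g ∧ u ≠ τ g := by
        intro u hu
        have h1 := Finset.mem_erase.mp hu
        have h2 := Finset.mem_erase.mp h1.2
        exact ⟨h2.2, h2.1, h1.1⟩
      obtain ⟨γ, hγ, hγe⟩ := ih s' hsub
        (fun u hu => by
          obtain ⟨h1, h2, h3⟩ := hmem u hu
          refine Finset.mem_erase.mpr ⟨?_, Finset.mem_erase.mpr ⟨?_, hτ u h1⟩⟩
          · intro h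
            have := congrArg τ h
            rw [hinv u h1, hinv g hg] at this
            exact h2 this
          · intro h
            apply h3
            rw [← h, hinv u h1])
        (fun u hu => hfp u (hmem u hu).1)
        (fun u hu => hinv u (hmem u hu).1)
        (fun u hu => hF u (hmem u hu).1)
        (fun u hu => hint u (hmem u hu).1)
      refine ⟨F g + γ, (hint g hg).add hγ, ?_⟩
      rw [← Finset.add_sum_erase s F hg, ← Finset.add_sum_erase _ F hτg, hγe, hF g hg]
      ring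

omit hs in
omit [Fintype K] [Fintype (IrrCharacter G)] in
/-- Scalar action of a class function on an irreducible character. -/
lemma scalar_class {n : ℕ} (ρ : Representation ℂ G (Fin n → ℂ)) (hρ : ρ.IsIrreducible) {f : G → ℂ}
    (hf : ∀ g h, f (h * g * h⁻¹) = f g) (h : G) :
    ∑ g : G, f g * ρ.character (g * h) =
      ((∑ g : G, f g * ρ.character g) / (Module.finrank ℂ (Fin n → ℂ) : ℂ)) * ρ.character h := by
  haveI := hρ
  have h1 := Cfsg.Agent.Lib.Char.Central.classOp_eq_smul ρ hf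
  have h2 : Cfsg.Agent.Lib.Char.Central.classOp ρ f * ρ h = ∑ g : G, f g • ρ (g * h) := by
    simp only [Cfsg.Agent.Lib.Char.Central.classOp, Finset.sum_mul, smul_mul_assoc, map_mul]
  have h3 := congrArg (fun T => LinearMap.trace ℂ (Fin n → ℂ) (T * ρ h)) h1
  simp only [h2, smul_mul_assoc, one_mul, map_smul, map_sum, smul_eq_mul] at h3
  exact h3

/-- Bound for the norm of `k ↦ χ (x k)`. -/
lemma norm_sum_le {χ : G → ℂ} (hχ : IsIrrCharacter G χ) :
    ∑ k : K, Complex.normSq (χ (x * k)) ≤ 4 * (Nat.card K : ℝ) := by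
  classical
  set F : G → ℝ := fun g => Complex.normSq (χ g) with hF
  have hF0 : ∀ g, 0 ≤ F g := fun g => Complex.normSq_nonneg _
  have hcf := isClassFunction_of_isIrrCharacter hχ
  have h1 : ∑ g : G, F g = (Nat.card G : ℝ) := by
    have h2 := classInner_self_of_isIrr hχ
    rw [classInner_def] at h2
    have hG : (Nat.card G : ℂ) ≠ 0 := card_ne_zero_complex
    have h3 : ∑ g : G, χ g * conj (χ g) = (Nat.card G : ℂ) := by
      field_simp at h2
      exact h2
    simp only [Complex.mul_conj] at h3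
    exact_mod_cast h3
  let π : G × K → G := fun p => p.1 * (x * p.2) * p.1⁻¹
  have h2 : ∑ p : G × K, F (π p) = (Nat.card G : ℝ) * ∑ k : K, F (x * k) := by
    rw [Fintype.sum_prod_type]
    have : ∀ g : G, ∑ k : K, F (π (g, k)) = ∑ k : K, F (x * k) := by
      intro g
      refine Finset.sum_congr rfl fun k _ => ?_
      show Complex.normSq (χ (g * (x * k) * g⁻¹)) = _
      rw [hcf]
    simp only [this, Finset.sum_const, Finset.card_univ, nsmul_eq_mul]
    rw [Nat.card_eq_fintype_card]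
  have hfib : ∀ w : G, (Finset.univ.filter fun p : G × K => π p = w).card ≤ 4 * Nat.card K := by
    intro w
    rw [← hs.hcard]
    rcases (Finset.univ.filter fun p : G × K => π p = w).eq_empty_or_nonempty with h | ⟨p₀, hp₀⟩
    · rw [h]; simp
    · have hp₀' : π p₀ = w := (Finset.mem_filter.mp hp₀).2
      have hcard : (Finset.univ.filter fun p : G × K => π p = w).card =
          Nat.card {p : G × K // π p = w} := by
        rw [Nat.card_eq_fintype_card, Fintype.card_subtype]
      rw [hcard]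
      refine Nat.card_le_card_of_injective
        (fun p => (⟨p₀.1⁻¹ * p.1.1, ?_⟩ : Subgroup.centralizer ({x} : Set G))) ?_
      · rw [Subgroup.mem_centralizer_singleton_iff]
        apply comm_of_conj hs p.1.2.2 p₀.2.2
        have h3 : p.1.1 * (x * p.1.2) * p.1.1⁻¹ = p₀.1 * (x * p₀.2) * p₀.1⁻¹ :=
          p.2.trans hp₀'.symm
        calc p₀.1⁻¹ * p.1.1 * (x * p.1.2) * (p₀.1⁻¹ * p.1.1)⁻¹
            = p₀.1⁻¹ * (p.1.1 * (x * p.1.2) * p.1.1⁻¹) * p₀.1 := by group
          _ = p₀.1⁻¹ * (p₀.1 * (x * p₀.2) * p₀.1⁻¹) * p₀.1 := by rw [h3]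
          _ = _ := by group
      · intro p q hpq
        have h4 : p₀.1⁻¹ * p.1.1 = p₀.1⁻¹ * q.1.1 := congrArg Subtype.val hpq
        have h5 : p.1.1 = q.1.1 := mul_left_cancel h4
        have h6 : p.1.1 * (x * p.1.2) * p.1.1⁻¹ = q.1.1 * (x * q.1.2) * q.1.1⁻¹ := by
          have h7 := p.2
          have h8 := q.2
          exact h7.trans h8.symm
        rw [← h5] at h6
        have h9 : (x * (p.1.2 : G)) = x * q.1.2 :=
          mul_left_cancel (mul_right_cancel h6)
        have h10 : (p.1.2 : G) = q.1.2 := mul_left_cancel h9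
        apply Subtype.ext
        exact Prod.ext h5 (Subtype.ext h10)
  have h3 : ∑ p : G × K, F (π p) ≤ (4 * (Nat.card K : ℝ)) * ∑ g : G, F g := by
    rw [← Finset.sum_fiberwise (s := Finset.univ) (g := π) (f := fun p => F (π p)), Finset.mul_sum]
    refine Finset.sum_le_sum fun w _ => ?_
    have h4 : ∑ p ∈ Finset.univ.filter (fun p : G × K => π p = w), F (π p) =
        ((Finset.univ.filter fun p : G × K => π p = w).card : ℝ) * F w := by
      rw [Finset.sum_congr rfl (g := fun _ => F w) (fun p hp => by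
        rw [(Finset.mem_filter.mp hp).2])]
      rw [Finset.sum_const, nsmul_eq_mul]
    rw [h4]
    apply mul_le_mul_of_nonneg_right _ (hF0 w)
    exact_mod_cast hfib w
  rw [h2, h1] at h3
  have hG : (0 : ℝ) < Nat.card G := by exact_mod_cast Nat.card_pos
  have h5 : (Nat.card G : ℝ) * ∑ k : K, F (x * k) ≤ (Nat.card G : ℝ) * (4 * (Nat.card K : ℝ)) := by
    linarith
  exact le_of_mul_le_mul_left h5 hG

/-- The average is odd ⟹ `χ (x k)` is constant on `K`. -/
theorem tau_odd_const {χ : G → ℂ} (hχ : IsIrrCharacter G χ) {a : ℤ} (ha : tau x K χ = a)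
    (hodd : Odd a) (k : K) : χ (x * k) = a := by
  classical
  have hm0 := card_K_ne_zero (K := K)
  set m := Nat.card K with hm
  have hmodd : Odd m := hs.hKodd
  obtain ⟨n, ρ, hρ, rfl⟩ := id hχ
  set χ := ρ.character with hχdef
  have hcf := isClassFunction_of_isIrrCharacter hχ
  have hint := fun g => Cfsg.Agent.Lib.Char.RealOdd.isIntegral_irr hχ g
  -- the sum of `χ (x k)`
  have hsumφ : ∑ k : K, χ (x * k) = (m : ℂ) * a := by
    rw [← ha, tau, ← hm]
    field_simp
  -- conjugate closure of `K`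
  let Y : G → Prop := fun g => ∃ k ∈ K, IsConj k g
  let f : G → ℂ := fun g => if Y g then 1 else 0
  have hYc : ∀ g h, Y (h * g * h⁻¹) ↔ Y g := by
    intro g h
    constructor
    · rintro ⟨k, hk, hc⟩
      refine ⟨k, hk, hc.trans ?_⟩
      exact isConj_comm.mp (isConj_iff.mpr ⟨h, rfl⟩)
    · rintro ⟨k, hk, hc⟩
      exact ⟨k, hk, hc.trans (isConj_iff.mpr ⟨h, rfl⟩)⟩
  have hfc : ∀ g h, f (h * g * h⁻¹) = f g := by
    intro g h
    simp only [f, hYc]
  have hfint : ∀ g, IsIntegral ℤ (f g) := by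
    intro g
    by_cases h : Y g
    · simp only [f, if_pos h]; exact isIntegral_one
    · simp only [f, if_neg h]; exact isIntegral_zero
  set ω : ℂ := (∑ g : G, f g * χ g) / (Module.finrank ℂ (Fin n → ℂ) : ℂ) with hω
  have hωint : IsIntegral ℤ ω := by
    haveI := hρ
    exact Cfsg.Agent.Lib.Char.Central.isIntegral_sum_mul_character_div ρ hfc hfint
  have hscal : ∀ h, ∑ g : G, f g * χ (g * h) = ω * χ h := fun h => scalar_class ρ hρ hfc h
  -- main congruence
  have hmain : ∀ k : K, ∃ γ : ℂ, IsIntegral ℤ γ ∧ ω * χ (x * k) = (m : ℂ) * a + 2 * γ := by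
    intro k
    set s : Finset G := Finset.univ.filter (fun g => Y g ∧ g ∉ K) with hsdef
    have hs1 : ∑ g : G, f g * χ (g * (x * k)) =
        ∑ g ∈ Finset.univ.filter (fun g => g ∈ K), χ (g * (x * k)) + ∑ g ∈ s, χ (g * (x * k)) := by
      rw [Finset.sum_filter, Finset.sum_filter, ← Finset.sum_add_distrib]
      refine Finset.sum_congr rfl fun g _ => ?_
      by_cases hgK : g ∈ K
      · have hY : Y g := ⟨g, hgK, IsConj.refl g⟩
        simp [f, hY, hgK]
      · by_cases hY : Y g
        · simp [f, hY, hgK]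
        · simp [f, hY, hgK]
    have hs2 : ∑ g ∈ Finset.univ.filter (fun g => g ∈ K), χ (g * (x * k)) = (m : ℂ) * a := by
      rw [← hsumφ]
      rw [Finset.sum_subtype (p := fun g => g ∈ K) (Finset.univ.filter (fun g => g ∈ K))
        (fun g => by simp) (fun g => χ (g * (x * (k : G))))]
      rw [← Equiv.sum_comp (Equiv.mulRight k) (fun k'' : K => χ (x * (k'' : G)))]
      refine Finset.sum_congr rfl fun k' _ => ?_
      congr 1
      show (k' : G) * (x * k) = x * ((k' : G) * k)
      rw [← mul_assoc, hs.hKx k' k'.2, mul_assoc]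
    obtain ⟨γ, hγ, hγe⟩ := sum_invol_two s (fun g => x * g * x⁻¹)
      (by
        intro g hg
        have hg' := (Finset.mem_filter.mp hg).2
        refine Finset.mem_filter.mpr ⟨Finset.mem_univ _, (hYc g x).mpr hg'.1, ?_⟩
        intro hmem
        apply hg'.2
        have h1 := hs.hKx _ hmem
        have h2 : g = x * g * x⁻¹ := by
          calc g = x⁻¹ * ((x * g * x⁻¹) * x) := by group
            _ = x⁻¹ * (x * (x * g * x⁻¹)) := by rw [h1]
            _ = _ := by group
        rw [h2]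
        exact hmem)
      (by
        intro g hg h
        have hg' := (Finset.mem_filter.mp hg).2
        apply hg'.2
        have hcomm : g * x = x * g := by
          have h1 : x * g = g * x := by
            calc x * g = x * g * x⁻¹ * x := by group
              _ = g * x := by rw [h]
          exact h1.symm
        obtain ⟨k₁, hk₁, hc⟩ := hg'.1
        obtain ⟨t, rfl⟩ := isConj_iff.mp hc
        apply mem_K_of_comm hs hcomm
        rw [conj_pow, k_pow hs hk₁]
        group)
      (by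
        intro g _
        have h3 : x⁻¹ = x := inv_eq_of_mul_eq_one_right hs.hx
        simp only [h3]
        calc x * (x * g * x) * x = (x * x) * g * (x * x) := by group
          _ = g := by rw [hs.hx]; simp)
      (fun g => χ (g * (x * k)))
      (by
        intro g _
        show χ (x * g * x⁻¹ * (x * k)) = χ (g * (x * k))
        have h1 : x * g * x⁻¹ * (x * k) = x * (g * (x * k)) * x⁻¹ := by
          have hkx : (k : G) * x = x * k := hs.hKx k k.2
          calc x * g * x⁻¹ * (x * k) = x * g * k := by group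
            _ = x * g * (k * x) * x⁻¹ := by group
            _ = x * g * (x * k) * x⁻¹ := by rw [hkx]
            _ = _ := by group
        rw [h1]
        exact hcf _ _)
      (fun g _ => hint _)
    refine ⟨γ, hγ, ?_⟩
    rw [← hscal, hs1, hs2, hγe]
  choose γ hγi hγe using hmain
  -- `k = 1`
  have hx1 : x * ((1 : K) : G) = x := by simp
  set e : ℂ := χ x with he
  have hγ1 : ω * e = (m : ℂ) * a + 2 * γ 1 := by
    have := hγe 1
    rwa [hx1] at this
  -- `m a` is odd
  have hnodd : Odd ((m : ℤ) * a) := (by exact_mod_cast hmodd : Odd (m : ℤ)).mul hodd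
  obtain ⟨l, hl⟩ := hnodd
  have hlc : (m : ℂ) * a = 2 * (l : ℂ) + 1 := by exact_mod_cast hl
  -- `χ (x k) ≡ e` modulo `2`
  have hI : ∀ z : ℤ, IsIntegral ℤ (z : ℂ) := fun z => by
    simpa using isIntegral_algebraMap (R := ℤ) (A := ℂ) (x := z)
  have hX : ∀ k : K, ∃ δ : ℂ, IsIntegral ℤ δ ∧ χ (x * k) = e + 2 * δ := by
    intro k
    have h1 := hγe k
    set A := χ (x * k) with hA
    have hAint : IsIntegral ℤ A := hint _
    have heint : IsIntegral ℤ e := hint _
    refine ⟨e * (γ k - γ 1) - γ 1 * (A - e) - l * (A - e), ?_, ?_⟩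
    · refine IsIntegral.sub (IsIntegral.sub ?_ ?_) ?_
      · exact heint.mul ((hγi k).sub (hγi 1))
      · exact (hγi 1).mul (hAint.sub heint)
      · exact (hI l).mul (hAint.sub heint)
    · linear_combination e * (h1 - hγ1) - (A - e) * hγ1 - (A - e) * hlc
  choose δ hδi hδe using hX
  obtain ⟨e', he'⟩ := char_x_int hs.hx (isCharacter_of_isIrrCharacter hχ)
  have heq : e = e' := he'
  -- sum of `δ`
  have hΔ : 2 * ∑ k : K, δ k = (m : ℂ) * ((a : ℂ) - e') := by
    have h1 : ∑ k : K, χ (x * k) = ∑ k : K, ((e' : ℂ) + 2 * δ k) :=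
      Finset.sum_congr rfl fun k _ => by rw [hδe, heq]
    rw [hsumφ, Finset.sum_add_distrib, Finset.sum_const, Finset.card_univ, nsmul_eq_mul,
      ← Nat.card_eq_fintype_card, ← hm, ← Finset.mul_sum] at h1
    linear_combination -h1
  have hΔint : IsIntegral ℤ (∑ k : K, δ k) := IsIntegral.sum _ fun k _ => hδi k
  obtain ⟨z, hz⟩ := int_of_integral_rat (q := ((m : ℚ) * ((a : ℚ) - e')) / 2) (by
    have : (((((m : ℚ) * ((a : ℚ) - e')) / 2 : ℚ)) : ℂ) = ∑ k : K, δ k := by
      push_cast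
      rw [← hΔ]
      ring
    rw [this]
    exact hΔint)
  have hz' : (m : ℤ) * (a - e') = 2 * z := by
    have : (m : ℚ) * ((a : ℚ) - e') = 2 * z := by
      rw [div_eq_iff (by norm_num)] at hz
      linarith
    exact_mod_cast this
  have hmoddZ : Odd (m : ℤ) := by exact_mod_cast hmodd
  have heven : Even (a - e') := by
    have h1 : Even ((m : ℤ) * (a - e')) := ⟨z, by rw [hz']; ring⟩
    rcases Int.even_mul.mp h1 with h2 | h2
    · exact absurd h2 (by simpa using hmoddZ)
    · exact h2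
  obtain ⟨t, ht⟩ := heven
  have he'odd : Odd e' := by
    have : e' = a - (t + t) := by omega
    rw [this]
    exact hodd.sub_even ⟨t, rfl⟩
  have hΔ2 : ∑ k : K, δ k = (m : ℂ) * t := by
    have h1 : (a : ℂ) - e' = t + t := by exact_mod_cast ht
    rw [h1] at hΔ
    linear_combination (1 / 2 : ℂ) * hΔ
  -- norm
  obtain ⟨N, hN⟩ := norm_int hs.hx hs.hKx (isCharacter_of_isIrrCharacter hχ)
  rw [← hm] at hN
  set D : ℂ := ∑ k : K, δ k * conj (δ k) with hD
  have hDint : IsIntegral ℤ D := IsIntegral.sum _ fun k _ => (hδi k).mul (isIntegral_conj (hδi k))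
  have hexp : (m : ℂ) * N = (m : ℂ) * (e' : ℂ) ^ 2 + 4 * (e' : ℂ) * ((m : ℂ) * t) + 4 * D := by
    rw [← hN]
    have h1 : ∀ k : K, χ (x * k) * conj (χ (x * k)) = (e' : ℂ) ^ 2 + 2 * (e' : ℂ) * δ k +
        2 * (e' : ℂ) * conj (δ k) + 4 * (δ k * conj (δ k)) := by
      intro k
      rw [hδe, heq, map_add, map_mul, map_intCast]
      have : (starRingEnd ℂ) (2 : ℂ) = 2 := map_ofNat _ 2
      rw [this]
      ring
    simp only [h1]
    rw [Finset.sum_add_distrib, Finset.sum_add_distrib, Finset.sum_add_distrib, Finset.sum_const,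
      Finset.card_univ, nsmul_eq_mul, ← Nat.card_eq_fintype_card, ← hm, ← Finset.mul_sum,
      ← Finset.mul_sum, ← Finset.mul_sum, ← map_sum, hΔ2]
    have : conj ((m : ℂ) * t) = (m : ℂ) * t := by
      rw [map_mul, map_natCast, map_intCast]
    rw [this]
    ring
  obtain ⟨z₂, hz₂⟩ := int_of_integral_rat (q := ((m : ℚ) * ((N : ℚ) - (e' : ℚ) ^ 2 - 4 * e' * t)) / 4) (by
    have : ((((m : ℚ) * ((N : ℚ) - (e' : ℚ) ^ 2 - 4 * e' * t)) / 4 : ℚ) : ℂ) = D := by
      push_cast
      linear_combination (1 / 4 : ℂ) * hexp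
    rw [this]
    exact hDint)
  have hz₂' : (m : ℤ) * (N - e' ^ 2 - 4 * e' * t) = 4 * z₂ := by
    have : (m : ℚ) * ((N : ℚ) - (e' : ℚ) ^ 2 - 4 * e' * t) = 4 * z₂ := by
      rw [div_eq_iff (by norm_num)] at hz₂
      linarith
    exact_mod_cast this
  have hcop : IsCoprime (4 : ℤ) (m : ℤ) := by
    have h1 : IsCoprime (2 : ℤ) (m : ℤ) := by
      obtain ⟨u, hu⟩ := hmoddZ
      exact ⟨-u, 1, by rw [hu]; ring⟩
    have : (4 : ℤ) = 2 ^ 2 := by norm_num
    rw [this]
    exact h1.pow_left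
  have hdvd : (4 : ℤ) ∣ (N - e' ^ 2 - 4 * e' * t) :=
    hcop.dvd_of_dvd_mul_left ⟨z₂, hz₂'⟩
  have hN4 : ∃ u : ℤ, N = 4 * u + 1 := by
    obtain ⟨v, hv⟩ := hdvd
    obtain ⟨w, hw⟩ := he'odd
    refine ⟨v + e' * t + w * w + w, ?_⟩
    have : e' ^ 2 = 4 * (w * w + w) + 1 := by rw [hw]; ring
    linarith
  -- bounds on `N`
  have hNreal : ∑ k : K, Complex.normSq (χ (x * k)) = (m : ℝ) * N := by
    have : ((∑ k : K, Complex.normSq (χ (x * k)) : ℝ) : ℂ) = (((m : ℝ) * N : ℝ) : ℂ) := by
      push_cast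
      rw [← hN]
      exact Finset.sum_congr rfl fun k _ => (Complex.mul_conj _).symm
    exact_mod_cast this
  have hmpos : (0 : ℝ) < m := by exact_mod_cast Nat.card_pos
  have hNle : N ≤ 4 := by
    have h1 := norm_sum_le hs hχ
    rw [hNreal, ← hm] at h1
    have h2 : (N : ℝ) ≤ 4 := by
      have : (m : ℝ) * N ≤ (m : ℝ) * 4 := by linarith
      exact le_of_mul_le_mul_left this hmpos
    exact_mod_cast h2
  have hNge : 0 ≤ N := by
    have h1 : 0 ≤ ∑ k : K, Complex.normSq (χ (x * k)) :=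
      Finset.sum_nonneg fun _ _ => Complex.normSq_nonneg _
    rw [hNreal] at h1
    have h2 : (0 : ℝ) ≤ N := nonneg_of_mul_nonneg_right h1 hmpos
    exact_mod_cast h2
  have hN1 : N = 1 := by
    obtain ⟨u, hu⟩ := hN4
    omega
  -- the conclusion
  have hdist : ∑ k : K, Complex.normSq (χ (x * k) - a) = (m : ℝ) * (1 - (a : ℝ) ^ 2) := by
    have : ((∑ k : K, Complex.normSq (χ (x * k) - a) : ℝ) : ℂ) =
        (((m : ℝ) * (1 - (a : ℝ) ^ 2) : ℝ) : ℂ) := by
      push_cast
      have h1 : ∀ k : K, ((Complex.normSq (χ (x * k) - a) : ℝ) : ℂ) =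
          χ (x * k) * conj (χ (x * k)) - a * χ (x * k) - a * conj (χ (x * k)) + (a : ℂ) ^ 2 := by
        intro k
        rw [← Complex.mul_conj, map_sub, map_intCast]
        ring
      simp only [h1]
      rw [Finset.sum_add_distrib, Finset.sum_sub_distrib, Finset.sum_sub_distrib, hN, hN1,
        ← Finset.mul_sum, ← Finset.mul_sum, ← map_sum, hsumφ, map_mul, map_natCast, map_intCast,
        Finset.sum_const, Finset.card_univ, nsmul_eq_mul, ← Nat.card_eq_fintype_card, ← hm]
      push_cast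
      ring
    exact_mod_cast this
  have ha2 : (1 : ℝ) ≤ (a : ℝ) ^ 2 := by
    have h1 : 1 ≤ a ^ 2 := by
      obtain ⟨w, rfl⟩ := hodd
      nlinarith [sq_nonneg w, sq_nonneg (2 * w + 1), Int.emod_two_eq_zero_or_one w,
        (by
          rcases lt_trichotomy w 0 with h | h | h
          · nlinarith
          · subst h; norm_num
          · nlinarith : 1 ≤ (2 * w + 1) ^ 2)]
    exact_mod_cast h1
  have hle0 : ∑ k : K, Complex.normSq (χ (x * k) - a) ≤ 0 := by
    rw [hdist]
    exact mul_nonpos_of_nonneg_of_nonpos hmpos.le (by linarith)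
  have hall := (Finset.sum_eq_zero_iff_of_nonneg (fun k _ => Complex.normSq_nonneg _)).mp
    (le_antisymm hle0 (Finset.sum_nonneg fun _ _ => Complex.normSq_nonneg _))
  have := hall k (Finset.mem_univ _)
  rw [Complex.normSq_eq_zero, sub_eq_zero] at this
  exact this

omit [Fintype G] [Fintype K] [Fintype (IrrCharacter G)] in
lemma sq_of_conj {u : G} (hu : IsConj x u) : u * u = 1 ∧ u ≠ 1 := by
  obtain ⟨g, rfl⟩ := isConj_iff.mp hu
  constructor
  · calc g * x * g⁻¹ * (g * x * g⁻¹) = g * (x * x) * g⁻¹ := by group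
      _ = 1 := by rw [hs.hx]; group
  · intro h
    exact hs.hx1 (conj_eq_one_iff.mp h)

omit [Fintype G] [Fintype K] [Fintype (IrrCharacter G)] in
lemma prod_comm {u v k : G} (hk : k ∈ K) (hu : IsConj x u) (hv : IsConj x v) (h : u * v = x * k) :
    u * x = x * u ∧ (u = 1 ∨ u = x ∨ u = y ∨ u = x * y) := by
  obtain ⟨hu1, hu2⟩ := sq_of_conj hs hu
  obtain ⟨hv1, hv2⟩ := sq_of_conj hs hv
  have hui : u⁻¹ = u := inv_eq_of_mul_eq_one_right hu1
  have hvi : v⁻¹ = v := inv_eq_of_mul_eq_one_right hv1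
  have h1 : u * (x * k) * u⁻¹ = (x * k)⁻¹ := by
    rw [← h, mul_inv_rev, hui, hvi, ← mul_assoc, hu1, one_mul]
  have h2 : (u * (x * k) * u⁻¹) ^ Nat.card K = x := by
    rw [h1, inv_pow, xk_pow hs hk]
    exact inv_eq_of_mul_eq_one_right hs.hx
  rw [conj_pow, xk_pow hs hk] at h2
  have h3 : u * x = x * u := by
    calc u * x = u * x * u⁻¹ * u := by group
      _ = x * u := by rw [h2]
  exact ⟨h3, mem_V_of_sq hs h3 hu1⟩

omit [Fintype G] [Fintype K] [Fintype (IrrCharacter G)] in
lemma count_ne {k : G} (hk : k ∈ K) (hk1 : k ≠ 1) :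
    Nat.card {p : G × G // IsConj x p.1 ∧ IsConj x p.2 ∧ p.1 * p.2 = x * k} = 0 := by
  haveI : IsEmpty {p : G × G // IsConj x p.1 ∧ IsConj x p.2 ∧ p.1 * p.2 = x * k} := by
    refine ⟨?_⟩
    rintro ⟨⟨u, v⟩, hu, hv, h⟩
    simp only at hu hv h
    obtain ⟨h3, hV⟩ := prod_comm hs hk hu hv h
    obtain ⟨hu1, hu2⟩ := sq_of_conj hs hu
    obtain ⟨hv1, hv2⟩ := sq_of_conj hs hv
    have hui : u⁻¹ = u := inv_eq_of_mul_eq_one_right hu1
    have hvi : v⁻¹ = v := inv_eq_of_mul_eq_one_right hv1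
    have h1 : u * (x * k) * u⁻¹ = (x * k)⁻¹ := by
      rw [← h, mul_inv_rev, hui, hvi, ← mul_assoc, hu1, one_mul]
    have h4 : u * k = k * u := v_comm hs hk u hV
    have h5 : u * (x * k) * u⁻¹ = x * k := by
      calc u * (x * k) * u⁻¹ = (u * x) * k * u⁻¹ := by group
        _ = (x * u) * k * u⁻¹ := by rw [h3]
        _ = x * (u * k) * u⁻¹ := by group
        _ = x * (k * u) * u⁻¹ := by rw [h4]
        _ = _ := by group
    rw [h5] at h1
    have h6 : (x * k) * (x * k) = 1 := by
      nth_rewrite 1 [h1]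
      group
    have h7 : k * k = 1 := by
      have hkx := hs.hKx k hk
      calc k * k = (x * x) * (k * k) := by rw [hs.hx, one_mul]
        _ = x * (x * k) * k := by group
        _ = x * (k * x) * k := by rw [hkx]
        _ = (x * k) * (x * k) := by group
        _ = 1 := h6
    exact hk1 (eq_one_of_sq hs hk h7)
  exact Nat.card_of_isEmpty

omit [Fintype G] [Fintype K] [Fintype (IrrCharacter G)] in
lemma count_one :
    Nat.card {p : G × G // IsConj x p.1 ∧ IsConj x p.2 ∧ p.1 * p.2 = x * ((1 : K) : G)} = 2 := by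
  have hyc : IsConj x y := hs.hconj y hs.hy hs.hy1
  have hxyc : IsConj x (x * y) := hs.hconj _ (xy_sq hs) (xy_ne_one hs)
  have hone : x * ((1 : K) : G) = x := by simp
  have hyi : y⁻¹ = y := inv_eq_of_mul_eq_one_right hs.hy
  have e1 : y * (x * y) = x := by
    calc y * (x * y) = y * (y * x) := by rw [hs.hxy]
      _ = (y * y) * x := by group
      _ = x := by rw [hs.hy, one_mul]
  have e2 : (x * y) * y = x := by
    rw [mul_assoc, hs.hy, mul_one]
  rw [Nat.card_eq_two_iff]
  refine ⟨⟨(y, x * y), hyc, hxyc, by simp only [hone, e1]⟩,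
    ⟨(x * y, y), hxyc, hyc, by simp only [hone, e2]⟩, ?_, ?_⟩
  · intro h
    have h1 : y = x * y := congrArg (fun p => p.1.1) h
    have : x = 1 := by
      have h2 : 1 * y = x * y := by rw [one_mul]; exact h1
      exact (mul_right_cancel h2).symm
    exact hs.hx1 this
  · rw [Set.eq_univ_iff_forall]
    rintro ⟨⟨u, v⟩, hu, hv, h⟩
    simp only at hu hv h
    rw [hone] at h
    obtain ⟨h3, hV⟩ := prod_comm (k := 1) hs K.one_mem hu hv (by rw [mul_one]; exact h)
    obtain ⟨hu1, hu2⟩ := sq_of_conj hs hu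
    obtain ⟨hv1, hv2⟩ := sq_of_conj hs hv
    have hvv : v = u⁻¹ * x := by rw [← h]; group
    have hui : u⁻¹ = u := inv_eq_of_mul_eq_one_right hu1
    rw [hui] at hvv
    rcases hV with rfl | rfl | rfl | rfl
    · exact absurd rfl hu2
    · exact absurd (by rw [hvv]; exact hs.hx) hv2
    · left
      apply Subtype.ext
      simp only
      rw [hvv, hs.hxy]
    · right
      apply Subtype.ext
      simp only [Set.mem_singleton_iff]
      refine Prod.ext rfl ?_
      simp only
      rw [hvv]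
      calc x * y * x = x * (y * x) := by group
        _ = x * (x * y) := by rw [hs.hxy]
        _ = (x * x) * y := by group
        _ = y := by rw [hs.hx, one_mul]

/-- The sum coming from class products. -/
theorem key_sum :
    ∑ χ : IrrCharacter G, (χ : G → ℂ) x * (χ : G → ℂ) x * conj (tau x K χ) / (χ : G → ℂ) 1 =
      8 / (Nat.card {u : G // IsConj x u} : ℂ) := by
  classical
  have hm := card_K_ne_zero (K := K)
  set N := Nat.card {u : G // IsConj x u} with hN
  haveI : Nonempty {u : G // IsConj x u} := ⟨⟨x, IsConj.refl x⟩⟩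
  have hNpos : 0 < N := Nat.card_pos
  have hNC : (N : ℂ) ≠ 0 := by exact_mod_cast hNpos.ne'
  have hcard : N * (4 * Nat.card K) = Nat.card G := by
    have h1 := card_isConj_mul_card_centralizer x
    rw [hs.hcard] at h1
    have h2 : Nat.card {y : G // IsConj y x} = N :=
      Nat.card_congr (Equiv.subtypeEquivRight fun y => isConj_comm)
    rw [h2] at h1
    exact h1
  have hcount : ∑ k : K, (Nat.card {p : G × G // IsConj x p.1 ∧ IsConj x p.2 ∧ p.1 * p.2 = x * k} : ℂ) = 2 := by
    rw [Finset.sum_eq_single (1 : K)]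
    · rw [count_one hs]; norm_num
    · intro k _ hk
      rw [count_ne hs k.2 (fun h => hk (Subtype.ext h))]
      simp
    · intro h
      exact absurd (Finset.mem_univ _) h
  have hexp : ∀ k : K, (Nat.card {p : G × G // IsConj x p.1 ∧ IsConj x p.2 ∧ p.1 * p.2 = x * k} : ℂ) =
      (N : ℂ) * N / (Nat.card G : ℂ) * ∑ χ : IrrCharacter G,
        (χ : G → ℂ) x * (χ : G → ℂ) x * conj ((χ : G → ℂ) (x * k)) / (χ : G → ℂ) 1 :=
    fun k => card_product_eq x x (x * k)
  simp only [hexp] at hcount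
  rw [← Finset.mul_sum, Finset.sum_comm] at hcount
  have hinner : ∀ χ : IrrCharacter G, ∑ k : K,
      (χ : G → ℂ) x * (χ : G → ℂ) x * conj ((χ : G → ℂ) (x * k)) / (χ : G → ℂ) 1 =
      (Nat.card K : ℂ) * ((χ : G → ℂ) x * (χ : G → ℂ) x * conj (tau x K χ) / (χ : G → ℂ) 1) := by
    intro χ
    simp only [tau, map_mul, map_inv₀, map_natCast, map_sum]
    have h1 : ∑ k : K, (χ : G → ℂ) x * (χ : G → ℂ) x * conj ((χ : G → ℂ) (x * k)) / (χ : G → ℂ) 1 =
        ((χ : G → ℂ) x * (χ : G → ℂ) x / (χ : G → ℂ) 1) * ∑ k : K, conj ((χ : G → ℂ) (x * k)) := by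
      rw [Finset.mul_sum]
      refine Finset.sum_congr rfl fun k _ => ?_
      ring
    rw [h1]
    field_simp
  simp only [hinner] at hcount
  rw [← Finset.mul_sum, ← hcard] at hcount
  push_cast at hcount
  rw [eq_div_iff hNC]
  have hNN : (N : ℂ) * N / ((N : ℂ) * (4 * (Nat.card K : ℂ))) * (Nat.card K : ℂ) = (N : ℂ) / 4 := by
    field_simp
  rw [← mul_assoc, hNN] at hcount
  linear_combination (4 : ℂ) * hcount

/-- The number of involutions is at most `15`. -/
theorem card_invol_le (hlin : ∀ χ : IrrCharacter G, (χ : G → ℂ) 1 = 1 → (χ : G → ℂ) x = 1 →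
      (χ : G → ℂ) = fun _ => 1) :
    Nat.card {u : G // IsConj x u} ≤ 15 := by
  classical
  have hm := card_K_ne_zero (K := K)
  have hvals : ∀ χ : IrrCharacter G, ∃ a d : ℤ, tau x K χ = a ∧ (χ : G → ℂ) 1 = d ∧ 0 < d := by
    intro χ
    obtain ⟨a, ha⟩ := tau_int hs.hx hs.hKx (isCharacter_of_isIrrCharacter χ.2)
    obtain ⟨n, hn, hd⟩ := exists_pos_deg_of_isIrr χ.2
    exact ⟨a, n, ha, by simpa using hd, by exact_mod_cast hn⟩
  choose a d ha hd hdpos using hvals
  let i₀ : IrrCharacter G := ⟨fun _ => 1, isIrrCharacter_of_deg_one isCharacter_one rfl⟩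
  have h0a : a i₀ = 1 := by
    have h1 := ha i₀
    have h2 : tau x K (i₀ : G → ℂ) = 1 := by
      simp only [tau, i₀, Finset.sum_const, Finset.card_univ, nsmul_eq_mul, mul_one]
      rw [← Nat.card_eq_fintype_card]
      field_simp
    rw [h2] at h1
    exact_mod_cast h1.symm
  have h0d : d i₀ = 1 := by
    have : (1 : ℂ) = (d i₀ : ℂ) := hd i₀
    exact_mod_cast this.symm
  have O : ∑ i, a i ^ 2 = 4 := by
    have h1 := sum_tau_sq hs
    have h2 : ((∑ i, a i ^ 2 : ℤ) : ℂ) = ((4 : ℤ) : ℂ) := by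
      push_cast
      rw [← h1]
      refine Finset.sum_congr rfl fun χ _ => ?_
      rw [ha, map_intCast, sq]
    exact_mod_cast h2
  have Od : ∑ i, a i * d i = 0 := by
    have h1 := sum_tau_deg hs
    have h2 : ((∑ i, a i * d i : ℤ) : ℂ) = 0 := by
      push_cast
      rw [← h1]
      refine Finset.sum_congr rfl fun χ _ => ?_
      rw [ha, hd, map_intCast]
    exact_mod_cast h2
  have hsq3 : ∀ i, i ≠ i₀ → a i ^ 2 ≤ 3 := by
    intro i hi
    have h1 : ∑ j ∈ Finset.univ.erase i₀, a j ^ 2 = 3 := by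
      have := Finset.add_sum_erase Finset.univ (fun j => a j ^ 2) (Finset.mem_univ i₀)
      simp only [h0a] at this
      omega
    rw [← h1]
    exact Finset.single_le_sum (f := fun j => a j ^ 2) (fun _ _ => sq_nonneg _)
      (Finset.mem_erase.mpr ⟨hi, Finset.mem_univ _⟩)
  have ha1 : ∀ i, a i ≠ 0 → a i = 1 ∨ a i = -1 := by
    intro i hi
    by_cases h : i = i₀
    · left; rw [h, h0a]
    · exact Cfsg.Agent.Lib.V4TI.Arith.sq_le_three' (hsq3 i h) hi
  have hval : ∀ i : IrrCharacter G, a i ≠ 0 → (i : G → ℂ) x = a i := by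
    intro i hi
    have hodd : Odd (a i) := by
      rcases ha1 i hi with h | h <;> rw [h] <;> decide
    have := tau_odd_const hs i.2 (ha i) hodd 1
    simpa using this
  have hcf := fun i : IrrCharacter G => isClassFunction_iff_isConj.mp (isClassFunction_of_isIrrCharacter i.2)
  have hmod : ∀ i, a i ≠ 0 → ∃ n, d i + 3 * a i = 4 * n := by
    intro i hi
    have h1 := hval i hi
    have h2 : (i : G → ℂ) y = a i := by
      rw [← hcf i _ _ (hs.hconj y hs.hy hs.hy1), h1]
    have h3 : (i : G → ℂ) (x * y) = a i := by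
      rw [← hcf i _ _ (hs.hconj _ (xy_sq hs) (xy_ne_one hs)), h1]
    obtain ⟨n, hn⟩ := char_V_mod hs.hx hs.hy hs.hxy (isCharacter_of_isIrrCharacter i.2) _ h1 h2 h3
    refine ⟨n, ?_⟩
    rw [hd] at hn
    exact_mod_cast hn
  have hlin' : ∀ i, i ≠ i₀ → a i ≠ 0 → a i * d i ≠ 1 := by
    intro i hi ha0 h
    have hd1 : d i = 1 := by
      have hdp := hdpos i
      have : d i ∣ 1 := ⟨a i, by rw [← h]; ring⟩
      have := Int.le_of_dvd (by norm_num) this
      omega
    have ha2 : a i = 1 := by rw [hd1, mul_one] at h; exact h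
    apply hi
    apply Subtype.ext
    apply hlin i
    · rw [hd, hd1]; norm_num
    · rw [hval i ha0, ha2]; norm_num
  set N := Nat.card {u : G // IsConj x u} with hN
  haveI : Nonempty {u : G // IsConj x u} := ⟨⟨x, IsConj.refl x⟩⟩
  have hNpos : 0 < N := Nat.card_pos
  have F : ∑ i, (a i : ℚ) / (d i : ℚ) = 8 / ((N : ℤ) : ℚ) := by
    have h1 := key_sum hs
    rw [← hN] at h1
    have h2 : ((∑ i, (a i : ℚ) / (d i : ℚ) : ℚ) : ℂ) = ((8 / ((N : ℤ) : ℚ) : ℚ) : ℂ) := by
      push_cast
      rw [← h1]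
      refine Finset.sum_congr rfl fun χ _ => ?_
      rw [ha, hd, map_intCast]
      by_cases h0 : a χ = 0
      · simp [h0]
      · rw [hval χ h0]
        have h3 : ((a χ : ℂ)) * (a χ : ℂ) = 1 := by
          rcases ha1 χ h0 with h | h <;> rw [h] <;> norm_num
        rw [h3, one_mul]
    exact_mod_cast h2
  have := Cfsg.Agent.Lib.V4TI.Arith.sum_arith a d i₀ (N : ℤ) (by exact_mod_cast hNpos) h0a h0d hdpos
    O Od hmod hlin' F
  exact_mod_cast this

end Orth

end Cfsg.Agent.Lib.V4TI.Core
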